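import Mathlib

/-!
Etale slices of smooth algebras through a prime with unramified residue field.
-/

universe u

open TensorProduct IsLocalRing KaehlerDifferential

namespace EtaleSlice4

variable {A P : Type u} [CommRing A] [CommRing P] [Algebra A P]

theorem span_D_eq_top {B : Type u} [CommRing B] [Algebra A B] [Algebra B P] [IsScalarTower A B P]
    (K : Type u) [Field K] [Algebra A K] [Algebra P K] [IsScalarTower A P K]
    (hK : Function.Surjective (algebraMap P K))
    (q : Ideal B) [q.IsPrime] [IsLocalization.AtPrime P q]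
    (hq : ∀ b, algebraMap P K (algebraMap B P b) = 0 ↔ b ∈ q)
    [Algebra.FormallyUnramified A K] :
    Submodule.span K {v : K ⊗[P] Ω[P⁄A] | ∃ b ∈ q, v = 1 ⊗ₜ D A P (algebraMap B P b)} = ⊤ := by
  set W := Submodule.span K {v : K ⊗[P] Ω[P⁄A] | ∃ b ∈ q, v = 1 ⊗ₜ D A P (algebraMap B P b)}
  have key : ∀ x ∈ RingHom.ker (algebraMap P K), (1 : K) ⊗ₜ[P] D A P x ∈ W := by
    intro x hx
    obtain ⟨b, s, rfl⟩ := IsLocalization.exists_mk'_eq q.primeCompl x
    have hspec : IsLocalization.mk' P b s * algebraMap B P s = algebraMap B P b :=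
      IsLocalization.mk'_spec P b s
    have hb : b ∈ q := by
      rw [← hq, ← hspec, map_mul, RingHom.mem_ker.mp hx, zero_mul]
    have hs : algebraMap P K (algebraMap B P s) ≠ 0 := fun h => s.2 ((hq _).mp h)
    have h1 : (algebraMap P K (algebraMap B P s)) •
        ((1 : K) ⊗ₜ[P] D A P (IsLocalization.mk' P b s)) =
        (1 : K) ⊗ₜ[P] D A P (algebraMap B P b) := by
      conv_rhs => rw [← hspec, Derivation.leibniz, tmul_add, tmul_smul, tmul_smul,
        algebra_compatible_smul K, RingHom.mem_ker.mp hx, zero_smul, zero_add,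
        algebra_compatible_smul K]
    have h2 := W.smul_mem (algebraMap P K (algebraMap B P s))⁻¹
      (h1 ▸ Submodule.subset_span ⟨b, hb, rfl⟩ :
        (algebraMap P K (algebraMap B P s)) •
          ((1 : K) ⊗ₜ[P] D A P (IsLocalization.mk' P b s)) ∈ W)
    rwa [smul_smul, inv_mul_cancel₀ hs, one_smul] at h2
  refine Submodule.eq_top_iff'.mpr fun v => ?_
  have h0 : KaehlerDifferential.mapBaseChange A P K v = 0 := Subsingleton.elim _ _
  obtain ⟨w', rfl⟩ :=
    (KaehlerDifferential.exact_kerCotangentToTensor_mapBaseChange A P K hK v).mp h0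
  obtain ⟨w, rfl⟩ := Ideal.toCotangent_surjective _ w'
  rw [KaehlerDifferential.kerCotangentToTensor_toCotangent]
  exact key _ w.2

theorem formallyEtale_of_basis {S K : Type u} [CommRing S] [IsLocalRing S] [Field K]
    [Algebra A S] [Algebra P S] [IsScalarTower A P S] [Algebra P K] [Algebra S K]
    [IsScalarTower P S K] [Algebra.EssFiniteType A S]
    [Algebra.FormallySmooth A P] [Module.Free P Ω[P⁄A]] [Module.Finite P Ω[P⁄A]]
    (h₁ : Function.Surjective (algebraMap P S)) (hK : Function.Surjective (algebraMap P K))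
    (h₃ : maximalIdeal S ≤ RingHom.ker (algebraMap S K))
    {n : ℕ} (g : Fin n → P) (hg : RingHom.ker (algebraMap P S) = Ideal.span (Set.range g))
    (b : Module.Basis (Fin n) K (K ⊗[P] Ω[P⁄A])) (hb : ∀ i, b i = 1 ⊗ₜ D A P (g i)) :
    Algebra.FormallyEtale A S := by
  have hmem : ∀ i, g i ∈ RingHom.ker (algebraMap P S) := fun i =>
    hg ▸ Ideal.subset_span ⟨i, rfl⟩
  have hfg : (RingHom.ker (algebraMap P S)).FG := hg ▸ Submodule.fg_span (Set.finite_range g)
  rw [Algebra.FormallyEtale.iff_formallyUnramified_and_formallySmooth]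
  constructor
  · refine ⟨?_⟩
    let φ : K ⊗[P] Ω[P⁄A] →ₗ[K] K ⊗[S] Ω[S⁄A] :=
      LinearMap.liftBaseChange K
        (((TensorProduct.mk S K (Ω[S⁄A])) 1).restrictScalars P ∘ₗ KaehlerDifferential.map A A P S)
    have hφ : φ = 0 := by
      refine b.ext fun i => ?_
      simp [φ, hb, RingHom.mem_ker.mp (hmem i)]
    have hzero : ∀ x : Ω[S⁄A], (1 : K) ⊗ₜ[S] x = 0 := by
      intro x
      obtain ⟨y, rfl⟩ := KaehlerDifferential.map_surjective_of_surjective A A P S h₁ x
      simpa [φ] using LinearMap.congr_fun hφ ((1 : K) ⊗ₜ[P] y)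
    have hsub : Subsingleton (K ⊗[S] Ω[S⁄A]) := by
      refine subsingleton_of_forall_eq 0 fun z => ?_
      induction z using TensorProduct.induction_on with
      | zero => rfl
      | tmul k x =>
        rw [show k ⊗ₜ[S] x = k • ((1 : K) ⊗ₜ[S] x) by rw [smul_tmul', smul_eq_mul, mul_one],
          hzero, smul_zero]
      | add a c ha hc => simp [ha, hc]
    have hSK : Function.Surjective (algebraMap S K) := fun k => by
      obtain ⟨x, rfl⟩ := hK k
      exact ⟨algebraMap P S x, (IsScalarTower.algebraMap_apply P S K x).symm⟩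
    let e : ResidueField S →ₐ[S] K := Ideal.Quotient.liftₐ _ (Algebra.ofId S K) h₃
    have he : Function.Bijective e := by
      refine ⟨RingHom.injective e.toRingHom, fun k => ?_⟩
      obtain ⟨s, rfl⟩ := hSK k
      exact ⟨algebraMap S _ s, e.commutes s⟩
    have : Subsingleton (ResidueField S ⊗[S] Ω[S⁄A]) :=
      ((AlgEquiv.ofBijective e he).toLinearEquiv.rTensor Ω[S⁄A]).subsingleton
    exact IsLocalRing.subsingleton_tensorProduct.mp this
  · rw [Algebra.FormallySmooth.iff_injective_cotangentComplexBaseChange P K h₁ hfg h₃]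
    let G : Fin n → RingHom.ker (algebraMap P S) := fun i => ⟨g i, hmem i⟩
    have hG : Submodule.span P (Set.range G) = ⊤ := by
      apply Submodule.map_injective_of_injective (f := Submodule.subtype _)
        (Submodule.subtype_injective _)
      rw [Submodule.map_span, Submodule.map_top, Submodule.range_subtype, ← Set.range_comp]
      exact hg.symm
    have hE : Submodule.span K (Set.range fun i => (1 : K) ⊗ₜ[P] G i) = ⊤ := by
      refine Submodule.eq_top_iff'.mpr fun z => ?_
      induction z using TensorProduct.induction_on with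
      | zero => exact Submodule.zero_mem _
      | tmul k x =>
        rw [show k ⊗ₜ[P] x = k • ((1 : K) ⊗ₜ[P] x) by rw [smul_tmul', smul_eq_mul, mul_one]]
        refine Submodule.smul_mem _ _ ?_
        have hx : x ∈ Submodule.span P (Set.range G) := hG ▸ Submodule.mem_top
        induction hx using Submodule.span_induction with
        | mem y hy => obtain ⟨i, rfl⟩ := hy; exact Submodule.subset_span ⟨i, rfl⟩
        | zero => simp
        | add a c _ _ ha hc => rw [tmul_add]; exact Submodule.add_mem _ ha hc
        | smul r y _ hy => rw [tmul_smul, algebra_compatible_smul K]; exact Submodule.smul_mem _ _ hy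
      | add a c ha hc => exact Submodule.add_mem _ ha hc
    refine (injective_iff_map_eq_zero _).mpr fun z hz => ?_
    obtain ⟨c, rfl⟩ := (Submodule.mem_span_range_iff_exists_fun K).mp (hE ▸ Submodule.mem_top : z ∈ _)
    have hz' : ∑ i, c i • b i = 0 := by
      rw [map_sum] at hz
      refine (Finset.sum_congr rfl fun i _ => ?_).trans hz
      rw [map_smul, KaehlerDifferential.cotangentComplexBaseChange_tmul, one_smul,
        KaehlerDifferential.kerToTensor_apply, hb i]
    have hc : ∀ i, c i = 0 := Fintype.linearIndependent_iff.mp b.linearIndependent c hz'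
    simp [hc]

end EtaleSlice4
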