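import Mathlib
import Groth.Agent.Lib.EtaleSlice4.Core

universe u

open TensorProduct IsLocalRing KaehlerDifferential

namespace EtaleSlice4

theorem exists_etale_slice {A B P : Type u} [CommRing A] [CommRing B] [CommRing P]
    [Algebra A B] [Algebra.Smooth A B] [IsLocalRing P] [Algebra B P] [Algebra A P]
    [IsScalarTower A B P] (q : Ideal B) [q.IsPrime] [IsLocalization.AtPrime P q]
    [Algebra.FormallyUnramified A (ResidueField P)] :
    ∃ (J : Ideal B) (h : B), J ≤ q ∧ h ∉ q ∧
      Algebra.Etale A (Localization.Away (Ideal.Quotient.mk J h)) ∧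
      ∀ Q : Ideal (Localization.Away (Ideal.Quotient.mk J h)), Q.IsPrime →
        Q.comap (algebraMap A _) = q.comap (algebraMap A B) →
        Q.comap ((algebraMap (B ⧸ J) _).comp (Ideal.Quotient.mk J)) = q := by
  classical
  have : Algebra.EssFiniteType B P := Algebra.EssFiniteType.of_isLocalization P q.primeCompl
  have : Algebra.EssFiniteType A P := Algebra.EssFiniteType.comp A B P
  have : Algebra.FormallyEtale B P := Algebra.FormallyEtale.of_isLocalization q.primeCompl
  have : Algebra.FormallySmooth A P := Algebra.FormallySmooth.comp A B P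
  have : Module.Free P Ω[P⁄A] := Module.free_of_flat_of_isLocalRing
  let K := ResidueField P
  have hK : Function.Surjective (algebraMap P K) := IsLocalRing.residue_surjective
  have hq : ∀ b, algebraMap P K (algebraMap B P b) = 0 ↔ b ∈ q := fun b =>
    (IsLocalRing.residue_eq_zero_iff _).trans (IsLocalization.AtPrime.to_map_mem_maximal_iff P q b)
  set s := {v : K ⊗[P] Ω[P⁄A] | ∃ b ∈ q, v = 1 ⊗ₜ D A P (algebraMap B P b)}
  have hs : Submodule.span K s = ⊤ := span_D_eq_top K hK q hq
  obtain ⟨t, hts, htspan, htli⟩ := exists_linearIndependent K s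
  let b0 : Module.Basis t K (K ⊗[P] Ω[P⁄A]) := Module.Basis.mk htli (by simp [htspan, hs])
  haveI : Finite t := Module.Finite.finite_basis b0
  obtain ⟨n, ⟨e⟩⟩ := Finite.exists_equiv_fin t
  have hg : ∀ i : Fin n, ∃ b ∈ q, (e.symm i).1 = 1 ⊗ₜ D A P (algebraMap B P b) :=
    fun i => hts (e.symm i).2
  choose g hgq hgv using hg
  let J : Ideal B := Ideal.span (Set.range g)
  have hJq : J ≤ q := Ideal.span_le.mpr (by rintro _ ⟨i, rfl⟩; exact hgq i)
  let q' : Ideal (B ⧸ J) := q.map (Ideal.Quotient.mk J)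
  haveI : q'.IsPrime := Ideal.map_isPrime_of_surjective Ideal.Quotient.mk_surjective
    (by rwa [Ideal.mk_ker])
  have hq' : q'.comap (Ideal.Quotient.mk J) = q := by
    rw [Ideal.comap_map_of_surjective _ Ideal.Quotient.mk_surjective, ← RingHom.ker_eq_comap_bot,
      Ideal.mk_ker, sup_eq_left.mpr hJq]
  have hT : Submonoid.map (Ideal.Quotient.mk J) q.primeCompl = q'.primeCompl := by
    ext x
    obtain ⟨x, rfl⟩ := Ideal.Quotient.mk_surjective x
    have hx : Ideal.Quotient.mk J x ∈ q' ↔ x ∈ q := by rw [← Ideal.mem_comap, hq']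
    constructor
    · rintro ⟨y, hy, hxy⟩ h
      refine hy ?_
      rw [SetLike.mem_coe, ← hq', Ideal.mem_comap]
      exact (hxy : Ideal.Quotient.mk J y = _) ▸ h
    · intro h
      exact ⟨x, fun h' => h (hx.mpr h'), rfl⟩
  let S := Localization.AtPrime q'
  haveI : IsLocalization (Submonoid.map (Ideal.Quotient.mk J) q.primeCompl) S :=
    hT.symm ▸ (inferInstance : IsLocalization q'.primeCompl S)
  let ψ : P →+* S := IsLocalization.map S (Ideal.Quotient.mk J)
    (hT.symm ▸ q.primeCompl.le_comap_map : q.primeCompl ≤ q'.primeCompl.comap _)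
  letI : Algebra P S := ψ.toAlgebra
  haveI : IsScalarTower A P S := IsScalarTower.of_algebraMap_eq (R := A) (S := P) (A := S) fun a => by
    change _ = ψ (algebraMap A P a)
    rw [IsScalarTower.algebraMap_apply A B P, IsLocalization.map_eq]
    rfl
  have h₁ : Function.Surjective (algebraMap P S) :=
    IsLocalization.map_surjective_of_surjective q.primeCompl P S Ideal.Quotient.mk_surjective
  have hker : RingHom.ker (algebraMap P S) = Ideal.span (Set.range fun i => algebraMap B P (g i)) := by
    have := IsLocalization.ker_map (S := P) S (Ideal.Quotient.mk J) hT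
    rw [Ideal.mk_ker, Ideal.map_span, ← Set.range_comp] at this
    exact this
  have hkerK : RingHom.ker (algebraMap P S) ≤ RingHom.ker (algebraMap P K) := by
    rw [hker, Ideal.span_le]
    rintro _ ⟨i, rfl⟩
    exact (hq _).mpr (hgq i)
  let χ : S →+* K := (algebraMap P S).liftOfRightInverse (Function.surjInv h₁)
    (Function.rightInverse_surjInv h₁) ⟨algebraMap P K, hkerK⟩
  letI : Algebra S K := χ.toAlgebra
  haveI : IsScalarTower P S K := IsScalarTower.of_algebraMap_eq (R := P) (S := S) (A := K) fun p =>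
    ((algebraMap P S).liftOfRightInverse_comp_apply (Function.surjInv h₁)
      (Function.rightInverse_surjInv h₁) ⟨algebraMap P K, hkerK⟩ p).symm
  have h₃ : maximalIdeal S ≤ RingHom.ker (algebraMap S K) := by
    intro x hx
    obtain ⟨p, rfl⟩ := h₁ x
    rw [RingHom.mem_ker, ← IsScalarTower.algebraMap_apply]
    refine (IsLocalRing.residue_eq_zero_iff _).mpr ?_
    exact fun hu => hx (hu.map _)
  haveI hJfp : Algebra.FinitePresentation A (B ⧸ J) :=
    Algebra.FinitePresentation.quotient (R := A) (Submodule.fg_span (Set.finite_range g))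
  haveI : Algebra.EssFiniteType (B ⧸ J) S :=
    Algebra.EssFiniteType.of_isLocalization S q'.primeCompl
  haveI : Algebra.EssFiniteType A S := Algebra.EssFiniteType.comp A (B ⧸ J) S
  have het : Algebra.IsEtaleAt A q' := by
    refine formallyEtale_of_basis (P := P) (S := S) (K := K) h₁ hK h₃
      (fun i => algebraMap B P (g i)) hker (b0.reindex e) fun i => ?_
    simp [b0, hgv]
  obtain ⟨f, hf, hfet⟩ := Algebra.exists_etale_of_isEtaleAt (R := A) q'
  let C1 := Localization.Away f
  haveI : Algebra.Etale A C1 := hfet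
  have hq1 : (q'.map (algebraMap (B ⧸ J) C1)).IsPrime ∧
      (q'.map (algebraMap (B ⧸ J) C1)).comap (algebraMap (B ⧸ J) C1) = q' := by
    have hd : Disjoint (Submonoid.powers f : Set (B ⧸ J)) q' :=
      Set.disjoint_left.mpr fun x ⟨k, hk⟩ hx =>
        hf (Ideal.IsPrime.mem_of_pow_mem (inferInstance : q'.IsPrime) k (by simpa [← hk] using hx))
    exact ⟨IsLocalization.isPrime_of_isPrime_disjoint (.powers f) C1 q' inferInstance hd,
      IsLocalization.comap_map_of_isPrime_disjoint (.powers f) C1 inferInstance hd⟩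
  let Q0 := q'.map (algebraMap (B ⧸ J) C1)
  haveI : Q0.IsPrime := hq1.1
  have hQ0 : Q0.comap (algebraMap A C1) = q.comap (algebraMap A B) := by
    rw [IsScalarTower.algebraMap_eq A (B ⧸ J) C1, ← Ideal.comap_comap, hq1.2, ← hq',
      Ideal.comap_comap]
    rfl
  haveI : Q0.LiesOver (q.comap (algebraMap A B)) := ⟨hQ0.symm⟩
  haveI : Algebra.QuasiFinite A C1 := inferInstance
  haveI : Algebra.QuasiFiniteAt A Q0 := inferInstance
  obtain ⟨s, hs0, hsall⟩ :=
    Ideal.exists_not_mem_forall_mem_of_ne_of_liesOver (q.comap (algebraMap A B)) Q0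
  obtain ⟨c, m, hcm⟩ := IsLocalization.exists_mk'_eq (Submonoid.powers f) s
  have hc : algebraMap (B ⧸ J) C1 c ∉ Q0 := by
    intro hc
    refine hs0 ?_
    rw [← hcm, IsLocalization.mk'_eq_mul_mk'_one]
    exact Ideal.mul_mem_right _ _ hc
  have hcall : ∀ Q : Ideal C1, Q.IsPrime → Q ≠ Q0 →
      Q.comap (algebraMap A C1) = q.comap (algebraMap A B) → algebraMap (B ⧸ J) C1 c ∈ Q := by
    intro Q hQ hne hov
    have : s ∈ Q := hsall Q hQ hne ⟨hov.symm⟩
    rw [← IsLocalization.mk'_spec C1 c m, hcm]
    exact Ideal.mul_mem_right _ _ this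
  have hfc : f * c ∉ q' := by
    intro h
    rcases (inferInstance : q'.IsPrime).mem_or_mem h with h | h
    · exact hf h
    · exact hc (Ideal.mem_map_of_mem _ h)
  obtain ⟨h, hh⟩ := Ideal.Quotient.mk_surjective (f * c)
  refine ⟨J, h, hJq, fun hmem => hfc ?_, ?_⟩
  · rw [← hh]; exact Ideal.mem_map_of_mem _ hmem
  rw [hh]
  let C := Localization.Away (f * c)
  letI : Algebra C1 C :=
    (IsLocalization.Away.awayToAwayRight f c : C1 →+* C).toAlgebra
  haveI : IsScalarTower (B ⧸ J) C1 C := IsScalarTower.of_algebraMap_eq (R := B ⧸ J) (S := C1) (A := C)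
    fun x => (IsLocalization.Away.awayToAwayRight_eq f c x).symm
  haveI : IsScalarTower A C1 C := IsScalarTower.of_algebraMap_eq (R := A) (S := C1) (A := C) fun a => by
    rw [IsScalarTower.algebraMap_apply A (B ⧸ J) C1, ← IsScalarTower.algebraMap_apply (B ⧸ J) C1 C,
      ← IsScalarTower.algebraMap_apply A (B ⧸ J) C]
  have hetC : Algebra.Etale A C := by
    refine Algebra.basicOpen_subset_etaleLocus_iff_etale.mp
      (subset_trans ?_ (Algebra.basicOpen_subset_etaleLocus_iff_etale.mpr hfet))
    exact SetLike.coe_subset_coe.mpr (PrimeSpectrum.basicOpen_mul_le_left f c)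
  have hcu : IsUnit (algebraMap C1 C (algebraMap (B ⧸ J) C1 c)) := by
    rw [← IsScalarTower.algebraMap_apply (B ⧸ J) C1 C]
    have hfcu := IsLocalization.Away.algebraMap_isUnit (S := C) (f * c)
    rw [map_mul] at hfcu
    exact isUnit_of_mul_isUnit_right hfcu
  refine ⟨hetC, fun Q hQ hov => ?_⟩
  haveI := hQ
  have hQ1 : Q.comap (algebraMap C1 C) = Q0 := by
    by_contra hne
    have := hcall _ inferInstance hne (by
      rw [Ideal.comap_comap, ← IsScalarTower.algebraMap_eq A C1 C]; exact hov)
    exact hQ.ne_top (Ideal.eq_top_of_isUnit_mem _ this hcu)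
  rw [← Ideal.comap_comap, IsScalarTower.algebraMap_eq (B ⧸ J) C1 C, ← Ideal.comap_comap, hQ1,
    hq1.2, hq']

end EtaleSlice4
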